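import Groth.Agent.Lib.Hensel.FiniteEtaleLift

/-!
# A finite model of an étale lift of a finite étale algebra
-/

set_option autoImplicit false
set_option linter.all false
set_option maxHeartbeats 1000000

universe u

namespace GrothLib.EtLiftNbhd5

open TensorProduct GrothLib.Hensel

variable {A : Type u} [CommRing A]

/-- An étale algebra with finite reduction contains a finite algebra, étale where finitely many elements are
invertible, which sees the reduction as an idempotent factor modulo the ideal. -/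
theorem exists_finite_model (I : Ideal A) {T : Type u} [CommRing T]
    [Algebra A T] [Algebra.Etale A T] {C : Type u} [CommRing C] [Algebra A C] [Module.Finite A C]
    (f : T →ₐ[A] C) (hf : Function.Surjective f)
    (hker : RingHom.ker f = I.map (algebraMap A T)) :
    ∃ (S : Type u) (_ : CommRing S) (_ : Algebra A S) (φ : S →ₐ[A] C) (ι : Type u) (r : ι → S) (b : S),
      Module.Finite A S ∧ Function.Surjective φ ∧ (∀ k, Algebra.Etale A (Localization.Away (r k))) ∧
      b ∈ Ideal.span (Set.range r) ∧ φ b = 1 ∧ b * b - b ∈ I.map (algebraMap A S) ∧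
      ∀ s, φ s = 0 → ∃ n : ℕ, b ^ n * s ∈ I.map (algebraMap A S) := by
  classical
  -- good elements from Zariski's main theorem
  set IT := I.map (algebraMap A T)
  let G : Set T := {r | IsIntegral A r ∧ ∀ x, ∃ m : ℕ, IsIntegral A (r ^ m * x)}
  have htop : Ideal.span G ⊔ IT = ⊤ := by
    by_contra h
    obtain ⟨q, hq, hle⟩ := Ideal.exists_le_maximal _ h
    have : Algebra.QuasiFiniteAt A q := inferInstance
    obtain ⟨r, hrq, hr, hr'⟩ := Algebra.zariskisMainProperty_iff.mp
      (Algebra.ZariskisMainProperty.of_finiteType (R := A) q)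
    exact hrq (hle (Ideal.mem_sup_left (Ideal.subset_span ⟨hr, hr'⟩)))
  obtain ⟨a₀, ha₀, i₀, hi₀, h01⟩ := Submodule.mem_sup.mp ((Ideal.eq_top_iff_one _).mp htop)
  obtain ⟨t, htG, hta⟩ := Submodule.mem_span_finite_of_mem_span ha₀
  obtain ⟨gens, hgens⟩ := (inferInstance : Algebra.FiniteType A T).out
  have hG : ∀ r : t, IsIntegral A (r : T) := fun r ↦ (htG r.2).1
  choose m hm using fun (r : t) (x : T) ↦ (htG r.2).2 x
  let S := Algebra.adjoin A ((t : Set T) ∪
    Set.range fun p : t × gens ↦ (p.1 : T) ^ m p.1 p.2 * (p.2 : T))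
  have hSfin : Module.Finite A S := ⟨(Submodule.fg_top _).mpr (fg_adjoin_of_finite
    ((t.finite_toSet).union (Set.finite_range _)) (by
      rintro x (hx | ⟨p, rfl⟩)
      exacts [hG ⟨x, hx⟩, hm _ _]))⟩
  let r : t → S := fun k ↦ ⟨k, Algebra.subset_adjoin (Set.mem_union_left _ k.2)⟩
  have hsurj : ∀ (k : t) (x : T), ∃ (n : ℕ) (s : S), (s : T) = (k : T) ^ n * x := by
    intro k x
    have hx : x ∈ Algebra.adjoin A (gens : Set T) := by rw [hgens]; exact trivial
    induction hx using Algebra.adjoin_induction with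
    | mem x hx =>
      exact ⟨m k x, ⟨_, Algebra.subset_adjoin (Set.mem_union_right _ ⟨(k, ⟨x, hx⟩), rfl⟩)⟩, rfl⟩
    | algebraMap a => exact ⟨0, algebraMap A S a, by simp⟩
    | add x y _ _ hx hy =>
      obtain ⟨n, s, hs⟩ := hx
      obtain ⟨n', s', hs'⟩ := hy
      refine ⟨n + n', r k ^ n' * s + r k ^ n * s', ?_⟩
      simp [r, hs, hs', pow_add]
      ring
    | mul x y _ _ hx hy =>
      obtain ⟨n, s, hs⟩ := hx
      obtain ⟨n', s', hs'⟩ := hy
      refine ⟨n + n', s * s', ?_⟩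
      simp [hs, hs', pow_add]
      ring
  set IS := I.map (algebraMap A S)
  let K := IT.comap S.val
  have hISK : IS ≤ K := by
    rw [Ideal.map_le_iff_le_comap]
    intro a ha
    exact Ideal.mem_map_of_mem (algebraMap A T) ha
  have hkill : ∀ k s, s ∈ K → ∃ n : ℕ, r k ^ n * s ∈ IS := by
    intro k s hs
    have : ∀ z ∈ IT, ∃ (n : ℕ) (s' : S), (s' : T) = (k : T) ^ n * z ∧ s' ∈ IS := by
      intro z hz
      refine Submodule.span_induction (p := fun z _ ↦ ∃ (n : ℕ) (s' : S),
        (s' : T) = (k : T) ^ n * z ∧ s' ∈ IS) ?_ ⟨0, 0, by simp, IS.zero_mem⟩ ?_ ?_ hz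
      · rintro _ ⟨a, ha, rfl⟩
        exact ⟨0, algebraMap A S a, by simp, Ideal.mem_map_of_mem _ ha⟩
      · rintro x y - - ⟨n, s₁, h₁, h₁'⟩ ⟨n', s₂, h₂, h₂'⟩
        refine ⟨n + n', r k ^ n' * s₁ + r k ^ n * s₂, ?_,
          add_mem (IS.mul_mem_left _ h₁') (IS.mul_mem_left _ h₂')⟩
        simp [r, h₁, h₂, pow_add]
        ring
      · rintro c x - ⟨n, s₁, h₁, h₁'⟩
        obtain ⟨n', s₂, h₂⟩ := hsurj k c
        refine ⟨n + n', s₂ * s₁, ?_, IS.mul_mem_left _ h₁'⟩
        simp [h₁, h₂, pow_add]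
        ring
    obtain ⟨n, s', h', hs'⟩ := this _ hs
    refine ⟨n, ?_⟩
    convert hs'
    exact Subtype.ext (by simp [r, h'])
  set 𝔞 := Ideal.span (Set.range r)
  let φ : S →ₐ[A] C := f.comp S.val
  have hφK : ∀ s, φ s = 0 ↔ s ∈ K := fun s ↦ by
    show f (s : T) = 0 ↔ (s : T) ∈ IT
    rw [← hker, RingHom.mem_ker]
  have h𝔞K : 𝔞 ⊔ K = ⊤ := by
    by_contra h
    obtain ⟨q, hq, hle⟩ := Ideal.exists_le_maximal _ h
    let _ : Algebra S C := φ.toRingHom.toAlgebra
    have : IsScalarTower A S C := IsScalarTower.of_algebraMap_eq' φ.comp_algebraMap.symm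
    have : Algebra.IsIntegral S C := Algebra.IsIntegral.tower_top A
    obtain ⟨Q, -, hQ, hQc⟩ := Ideal.exists_ideal_over_prime_of_isIntegral (S := C) q ⊥ (by
      intro s hs
      exact hle (Ideal.mem_sup_right ((hφK s).mp hs)))
    have h1 : a₀ ∈ Q.comap f := by
      refine Submodule.span_induction (fun z hz ↦ ?_) (Ideal.zero_mem _)
        (fun x y _ _ hx hy ↦ add_mem hx hy) (fun c x _ hx ↦ Ideal.mul_mem_left _ _ hx) hta
      have : r ⟨z, hz⟩ ∈ q := hle (Ideal.mem_sup_left (Ideal.subset_span ⟨_, rfl⟩))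
      rw [← hQc] at this
      exact this
    have h2 : f i₀ = 0 := by rwa [← RingHom.mem_ker, hker]
    refine hQ.ne_top ((Ideal.eq_top_iff_one Q).mpr ?_)
    rw [← map_one f, ← h01, map_add, h2, add_zero]
    exact h1
  obtain ⟨a, ha, κ, hκ, h1⟩ := Submodule.mem_sup.mp ((Ideal.eq_top_iff_one _).mp h𝔞K)
  have hpow : ∀ s ∈ K, ∃ n : ℕ, a ^ n * s ∈ IS := by
    intro s hs
    have : 𝔞 ≤ (IS.colon {s}).radical := by
      rw [Ideal.span_le]
      rintro _ ⟨k, rfl⟩
      obtain ⟨n, hn⟩ := hkill k s hs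
      exact ⟨n, by simpa [Submodule.mem_colon_singleton] using hn⟩
    obtain ⟨n, hn⟩ := this ha
    exact ⟨n, by simpa [Submodule.mem_colon_singleton] using hn⟩
  obtain ⟨N, hN⟩ := hpow κ hκ
  set b := a ^ (N + 1)
  have hb1 : 1 - b ∈ K := by
    obtain ⟨c, hc⟩ : (1 - a) ∣ 1 ^ (N + 1) - a ^ (N + 1) := sub_dvd_pow_sub_pow _ _ _
    rw [one_pow, show 1 - a = κ by rw [← h1]; ring] at hc
    show 1 - a ^ (N + 1) ∈ K
    rw [hc]
    exact K.mul_mem_right _ hκ
  have hb : b * b - b ∈ IS := by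
    obtain ⟨c, hc⟩ : (1 - a) ∣ 1 ^ (N + 1) - a ^ (N + 1) := sub_dvd_pow_sub_pow _ _ _
    rw [one_pow, show 1 - a = κ by rw [← h1]; ring] at hc
    have : b * b - b = -(a * c) * (a ^ N * κ) := by
      linear_combination -(a ^ (N + 1)) * hc
    rw [this]
    exact IS.mul_mem_left _ hN
  have hb𝔞 : b ∈ 𝔞 := 𝔞.pow_mem_of_mem ha _ (Nat.succ_pos N)
  have ha1 : f (a : T) = 1 := by
    have := congrArg φ h1
    rwa [map_add, (hφK κ).mpr hκ, add_zero, map_one] at this
  have hsur : Function.Surjective φ := by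
    intro c
    obtain ⟨x, rfl⟩ := hf c
    let L : Ideal S :=
      { carrier := {s | ∃ s' : S, f ((s : T) * x) = φ s'}
        add_mem' := by
          rintro s₁ s₂ ⟨u₁, h₁⟩ ⟨u₂, h₂⟩
          refine ⟨u₁ + u₂, ?_⟩
          rw [S.coe_add, add_mul, map_add, h₁, h₂, map_add]
        zero_mem' := ⟨0, by simp⟩
        smul_mem' := by
          rintro c s ⟨u, h⟩
          refine ⟨c * u, ?_⟩
          rw [smul_eq_mul, S.coe_mul, mul_assoc, map_mul f, h, map_mul φ]
          rfl }
    have hx : 𝔞 ≤ L.radical := by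
      rw [Ideal.span_le]
      rintro _ ⟨k, rfl⟩
      obtain ⟨n, s, hs⟩ := hsurj k x
      exact ⟨n, s, by simp [φ, r, hs]⟩
    obtain ⟨n, s, hs⟩ := hx ha
    refine ⟨s, ?_⟩
    rw [← hs]
    simp [ha1]
  refine ⟨S, inferInstance, inferInstance, φ, _, r, b, hSfin, hsur, fun k => ?_, hb𝔞, ?_, hb, fun s hs => ?_⟩
  · let T' := Localization.Away ((k : T))
    have : IsLocalization.Away (r k) T' := by
      constructor
      constructor
      · rintro ⟨_, n, rfl⟩
        show IsUnit (algebraMap T T' ((r k ^ n : S) : T))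
        rw [SubmonoidClass.coe_pow, map_pow]
        exact (IsLocalization.Away.algebraMap_isUnit (k : T)).pow n
      · intro z
        obtain ⟨⟨x, _, n, rfl⟩, hx⟩ := IsLocalization.surj (Submonoid.powers (k : T)) z
        obtain ⟨n', s, hs⟩ := hsurj k x
        refine ⟨⟨s, ⟨_, n + n', rfl⟩⟩, ?_⟩
        show z * algebraMap T T' ((r k ^ (n + n') : S) : T) = algebraMap T T' (s : T)
        rw [hs, SubmonoidClass.coe_pow, map_mul, ← hx]
        simp only [r, pow_add, map_mul, map_pow]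
        ring
      · intro x y hxy
        obtain ⟨⟨_, n, rfl⟩, hn⟩ := (IsLocalization.eq_iff_exists (Submonoid.powers (k : T)) T').mp
          (show algebraMap T T' (x : T) = algebraMap T T' (y : T) from hxy)
        exact ⟨⟨_, n, rfl⟩, Subtype.ext (by simpa [r] using hn)⟩
    have : Algebra.Etale A T' := Algebra.Etale.comp A T T'
    exact Algebra.Etale.of_equiv
      ((Localization.algEquiv (Submonoid.powers (r k)) T').symm.restrictScalars A)
  · show f ((a ^ (N + 1) : S) : T) = 1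
    rw [SubmonoidClass.coe_pow, map_pow, ha1, one_pow]
  · obtain ⟨n, hn⟩ := hpow s ((hφK s).mp hs)
    refine ⟨n, ?_⟩
    show (a ^ (N + 1)) ^ n * s ∈ IS
    rw [← pow_mul, show (N + 1) * n = N * n + n by ring, pow_add, mul_assoc]
    exact IS.mul_mem_left _ hn

end GrothLib.EtLiftNbhd5
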