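import Groth.Agent.Lib.EtLiftNbhd5.Model
import Groth.Agent.Lib.Hensel.PairNbhd
import Mathlib.RingTheory.Finiteness.Nakayama
import Mathlib.LinearAlgebra.Matrix.Charpoly.LinearMap
import Mathlib.RingTheory.Localization.BaseChange
import Mathlib.RingTheory.Localization.Away.Basic
import Mathlib.RingTheory.RingHom.Etale
import Mathlib.RingTheory.TensorProduct.Finite

/-!
# Finite étale algebras lift to an étale neighbourhood of a pair
-/

set_option autoImplicit false
set_option linter.all false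
set_option backward.isDefEq.respectTransparency false
set_option maxHeartbeats 1000000

universe u

open Polynomial TensorProduct

namespace GrothLib.EtLiftNbhd5

variable {A : Type u} [CommRing A] (I : Ideal A)

/-- An element of `1 + IS` killing a finite module equal to `I` times itself. -/
theorem exists_smul_top_eq_zero {M : Type u} [AddCommGroup M] [Module A M] [Module.Finite A M]
    (h : (⊤ : Submodule A M) ≤ I • ⊤) : ∃ g : A, g - 1 ∈ I ∧ ∀ m : M, g • m = 0 := by
  obtain ⟨g, hg, hgm⟩ := Submodule.exists_sub_one_mem_and_smul_eq_zero_of_fg_of_le_smul I ⊤ Module.Finite.fg_top h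
  exact ⟨g, hg, fun m => hgm m trivial⟩

/-- Inverting an element of `1 + I` does not change the quotient by `I`. -/
theorem bijective_quotientMap_away {g : A} (hg : g - 1 ∈ I) (A' : Type u) [CommRing A'] [Algebra A A']
    [IsLocalization.Away g A'] :
    Function.Bijective (Ideal.quotientMap (I.map (algebraMap A A')) (algebraMap A A') Ideal.le_comap_map) := by
  have hmem : ∀ n : ℕ, g ^ n - 1 ∈ I := fun n => by
    obtain ⟨c, hc⟩ := sub_dvd_pow_sub_pow g 1 n
    rw [one_pow] at hc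
    rw [hc]
    exact I.mul_mem_right _ hg
  refine ⟨Ideal.quotientMap_injective' fun a ha => ?_, fun x => ?_⟩
  · obtain ⟨⟨⟨c, hc⟩, ⟨_, n, rfl⟩⟩, h⟩ := (IsLocalization.mem_map_algebraMap_iff (Submonoid.powers g) A').1 ha
    rw [← map_mul] at h
    obtain ⟨⟨_, k, rfl⟩, hk⟩ := (IsLocalization.eq_iff_exists (Submonoid.powers g) A').1 h
    have h1 : g ^ k * (a * g ^ n) ∈ I := by
      rw [show g ^ k * (a * g ^ n) = g ^ k * c from hk]
      exact I.mul_mem_left _ hc
    have h2 : a = g ^ k * (a * g ^ n) - (g ^ (k + n) - 1) * a := by rw [pow_add]; ring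
    rw [h2]
    exact I.sub_mem h1 (I.mul_mem_right _ (hmem _))
  · obtain ⟨x, rfl⟩ := Ideal.Quotient.mk_surjective x
    obtain ⟨⟨a, _, n, rfl⟩, h⟩ := IsLocalization.surj (Submonoid.powers g) x
    refine ⟨Ideal.Quotient.mk I a, ?_⟩
    rw [Ideal.quotientMap_mk, Ideal.Quotient.eq, ← h,
      show x * algebraMap A A' (g ^ n) - x = x * (algebraMap A A' (g ^ n - 1)) by rw [map_sub, map_one]; ring]
    exact Ideal.mul_mem_left _ _ (Ideal.mem_map_of_mem _ (hmem n))

/-- An idempotent factor covered by étale localisations of the ring is étale. -/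
theorem etale_factor_of_cover {A' S B : Type u} [CommRing A'] [CommRing S] [CommRing B] [Algebra A' S] [Algebra S B]
    [Algebra A' B] [IsScalarTower A' S B] (e : S) [IsLocalization.Away e B] {ι : Type u} (ρ : ι → S)
    (het : ∀ k, Algebra.Etale A' (Localization.Away (ρ k)))
    (htop : Ideal.span (Set.range fun k => algebraMap S B (ρ k)) = ⊤) : Algebra.Etale A' B := by
  refine RingHom.etale_algebraMap.mp (RingHom.Etale.ofLocalizationSpanTarget (algebraMap A' B) _ htop ?_)
  rintro ⟨_, k, rfl⟩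
  let L := Localization.Away (ρ k)
  let L' := Localization.Away (algebraMap S L e)
  let M := Localization.Away (algebraMap S B (ρ k))
  haveI := het k
  haveI h1 : IsLocalization.Away (ρ k * e) M := IsLocalization.Away.mul B M e (ρ k)
  haveI : IsLocalization.Away (e * ρ k) L' := IsLocalization.Away.mul L L' (ρ k) e
  haveI : IsLocalization.Away (e * ρ k) M := by rw [mul_comm]; exact h1
  haveI : Algebra.Etale L L' := Algebra.Etale.of_isLocalizationAway (algebraMap S L e)
  haveI : Algebra.Etale A' L' := Algebra.Etale.comp A' L L'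
  rw [← IsScalarTower.algebraMap_eq]
  exact RingHom.etale_algebraMap.mpr (Algebra.Etale.of_equiv
    ((IsLocalization.algEquiv (Submonoid.powers (e * ρ k)) L' M).restrictScalars A'))

/-- Étale localisations stay étale under base change. -/
theorem etale_away_one_tmul (A' : Type u) [CommRing A'] [Algebra A A'] {S : Type u} [CommRing S] [Algebra A S] (r : S)
    [Algebra.Etale A (Localization.Away r)] : Algebra.Etale A' (Localization.Away ((1 : A') ⊗ₜ[A] r)) := by
  let F : (A' ⊗[A] S) →ₐ[A'] (A' ⊗[A] Localization.Away r) :=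
    Algebra.TensorProduct.map (AlgHom.id A' A') (IsScalarTower.toAlgHom A S (Localization.Away r))
  letI : Algebra (A' ⊗[A] S) (A' ⊗[A] Localization.Away r) := F.toRingHom.toAlgebra
  haveI : IsScalarTower A' (A' ⊗[A] S) (A' ⊗[A] Localization.Away r) :=
    IsScalarTower.of_algebraMap_eq' F.comp_algebraMap.symm
  haveI : IsLocalization.Away ((1 : A') ⊗ₜ[A] r) (A' ⊗[A] Localization.Away r) := by
    have h := IsLocalization.tensorProduct_tensorProduct_right A A' (Submonoid.powers r) (Localization.Away r)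
      (RingHom.ext fun s => Algebra.TensorProduct.map_tmul _ _ _ _)
    rwa [Submonoid.map_powers] at h
  exact Algebra.Etale.of_equiv
    ((Localization.algEquiv (Submonoid.powers ((1 : A') ⊗ₜ[A] r)) (A' ⊗[A] Localization.Away r)).symm.restrictScalars A')

/-- Bijectivity of the quotient map along two steps. -/
theorem bijective_quotientMap_comp {A₂ A' : Type u} [CommRing A₂] [Algebra A A₂] [CommRing A'] [Algebra A A'] [Algebra A₂ A']
    [IsScalarTower A A₂ A']
    (hA₂ : Function.Bijective (Ideal.quotientMap (I.map (algebraMap A A₂)) (algebraMap A A₂) Ideal.le_comap_map))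
    (h2 : Function.Bijective (Ideal.quotientMap ((I.map (algebraMap A A₂)).map (algebraMap A₂ A')) (algebraMap A₂ A')
      Ideal.le_comap_map)) :
    Function.Bijective (Ideal.quotientMap (I.map (algebraMap A A')) (algebraMap A A') Ideal.le_comap_map) := by
  have hIA' : I.map (algebraMap A A') = (I.map (algebraMap A A₂)).map (algebraMap A₂ A') := by
    rw [Ideal.map_map, ← IsScalarTower.algebraMap_eq]
  refine ⟨Ideal.quotientMap_injective' fun a ha => ?_, fun x => ?_⟩
  · rw [Ideal.mem_comap, IsScalarTower.algebraMap_apply A A₂ A', hIA'] at ha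
    have h3 := h2.1 (a₁ := Ideal.Quotient.mk _ (algebraMap A A₂ a)) (a₂ := 0) (by
      rw [map_zero, Ideal.quotientMap_mk]; exact Ideal.Quotient.eq_zero_iff_mem.2 ha)
    have h4 := hA₂.1 (a₁ := Ideal.Quotient.mk _ a) (a₂ := 0) (by rw [map_zero, Ideal.quotientMap_mk]; exact h3)
    exact Ideal.Quotient.eq_zero_iff_mem.1 h4
  · obtain ⟨x, rfl⟩ := Ideal.Quotient.mk_surjective x
    obtain ⟨y, hy⟩ := h2.2 (Ideal.Quotient.mk _ x)
    obtain ⟨z, rfl⟩ := hA₂.2 y
    obtain ⟨a, rfl⟩ := Ideal.Quotient.mk_surjective z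
    rw [Ideal.quotientMap_mk, Ideal.quotientMap_mk, Ideal.Quotient.eq, ← IsScalarTower.algebraMap_apply, ← hIA'] at hy
    exact ⟨Ideal.Quotient.mk I a, by rw [Ideal.quotientMap_mk]; exact Ideal.Quotient.eq.2 hy⟩

/-- Modulo `I` every element of a base change along a neighbourhood comes from the original algebra. -/
theorem exists_sub_tmul_mem {S A' : Type u} [CommRing S] [Algebra A S] [CommRing A'] [Algebra A A']
    (hbij : Function.Bijective (Ideal.quotientMap (I.map (algebraMap A A')) (algebraMap A A') Ideal.le_comap_map))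
    (w : A' ⊗[A] S) : ∃ s : S, w - 1 ⊗ₜ s ∈ I.map (algebraMap A (A' ⊗[A] S)) := by
  let S' := A' ⊗[A] S
  induction w using TensorProduct.induction_on with
  | zero => exact ⟨0, by simp⟩
  | add w₁ w₂ h₁ h₂ =>
    obtain ⟨s₁, h₁⟩ := h₁
    obtain ⟨s₂, h₂⟩ := h₂
    exact ⟨s₁ + s₂, by rw [TensorProduct.tmul_add, add_sub_add_comm]; exact add_mem h₁ h₂⟩
  | tmul a s =>
    obtain ⟨c, hc⟩ := hbij.2 (Ideal.Quotient.mk _ a)
    obtain ⟨c, rfl⟩ := Ideal.Quotient.mk_surjective c
    rw [Ideal.quotientMap_mk, Ideal.Quotient.eq] at hc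
    refine ⟨c • s, ?_⟩
    have h := Ideal.mul_mem_right ((1 : A') ⊗ₜ[A] s) _
      (Ideal.mem_map_of_mem (Algebra.TensorProduct.includeLeft : A' →ₐ[A] S').toRingHom hc)
    rw [Ideal.map_map, show (Algebra.TensorProduct.includeLeft : A' →ₐ[A] S').toRingHom.comp (algebraMap A A') =
      algebraMap A S' from (Algebra.TensorProduct.includeLeft : A' →ₐ[A] S').comp_algebraMap] at h
    have h2 := neg_mem h
    convert h2 using 1
    show a ⊗ₜ[A] s - 1 ⊗ₜ[A] (c • s) = -(((algebraMap A A' c - a) ⊗ₜ[A] (1 : S)) * (1 ⊗ₜ[A] s))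
    rw [Algebra.TensorProduct.tmul_mul_tmul, mul_one, one_mul, TensorProduct.sub_tmul, neg_sub,
      Algebra.algebraMap_eq_smul_one, TensorProduct.smul_tmul]

/-- The kernel of the reduction of the idempotent factor. -/
theorem ker_le_map {S A' C : Type u} [CommRing S] [Algebra A S] [CommRing A'] [Algebra A A'] [CommRing C] [Algebra A C]
    (hbij : Function.Bijective (Ideal.quotientMap (I.map (algebraMap A A')) (algebraMap A A') Ideal.le_comap_map))
    (φ : S →ₐ[A] C) (b : S) (hker : ∀ s, φ s = 0 → ∃ n : ℕ, b ^ n * s ∈ I.map (algebraMap A S))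
    (J : Ideal (A' ⊗[A] S)) (ψ : A' ⊗[A] S →ₐ[A] C) (hψ : ∀ s, ψ (1 ⊗ₜ s) = φ s)
    (hI : ∀ a ∈ I, algebraMap A C a = 0)
    {y : A' ⊗[A] S} (hyJ : y ∈ J) {n : ℕ} (hy : y - ((1 : A') ⊗ₜ[A] b - 1) ^ n ∈ I.map (algebraMap A (A' ⊗[A] S)))
    {z : A' ⊗[A] S} (hz' : ψ z = 0) : Ideal.Quotient.mk J z ∈ I.map (algebraMap A ((A' ⊗[A] S) ⧸ J)) := by
  let S' := A' ⊗[A] S
  let b' : S' := 1 ⊗ₜ b
  obtain ⟨s, hs⟩ := exists_sub_tmul_mem I hbij z
  have hs0 : φ s = 0 := by
    have hle : I.map (algebraMap A S') ≤ RingHom.ker ψ := Ideal.map_le_iff_le_comap.2 fun a ha => by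
      rw [Ideal.mem_comap, RingHom.mem_ker, AlgHom.commutes]
      exact hI a ha
    have h : ψ (z - 1 ⊗ₜ s) = 0 := hle hs
    rwa [map_sub, hz', zero_sub, neg_eq_zero, hψ] at h
  obtain ⟨N, hN⟩ := hker s hs0
  let IB := I.map (algebraMap A (S' ⧸ J))
  let q : S' →+* (S' ⧸ J) ⧸ IB := (Ideal.Quotient.mk IB).comp (Ideal.Quotient.mk J)
  have hqI : ∀ w ∈ I.map (algebraMap A S'), q w = 0 := fun w hw => by
    refine Ideal.Quotient.eq_zero_iff_mem.2 ?_
    have h := Ideal.mem_map_of_mem (Ideal.Quotient.mk J) hw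
    rwa [Ideal.map_map, show (Ideal.Quotient.mk J).comp (algebraMap A S') = algebraMap A (S' ⧸ J) from rfl] at h
  have hqy : (q b' - 1) ^ n = 0 := by
    have h := hqI _ hy
    rw [map_sub, map_pow, map_sub, map_one] at h
    rw [show q y = 0 by
      show Ideal.Quotient.mk IB (Ideal.Quotient.mk J y) = 0
      rw [Ideal.Quotient.eq_zero_iff_mem.2 hyJ, map_zero], zero_sub, neg_eq_zero] at h
    exact h
  have hqu : IsUnit (q b') := by
    have h := IsNilpotent.isUnit_one_add (⟨n, hqy⟩ : IsNilpotent (q b' - 1))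
    rwa [add_sub_cancel] at h
  have hsq : q (1 ⊗ₜ s) = 0 := by
    have h := hqI ((1 : A') ⊗ₜ[A] (b ^ N * s)) (by
      have h := Ideal.mem_map_of_mem (Algebra.TensorProduct.includeRight : S →ₐ[A] S').toRingHom hN
      rwa [Ideal.map_map, show (Algebra.TensorProduct.includeRight : S →ₐ[A] S').toRingHom.comp (algebraMap A S) =
        algebraMap A S' from (Algebra.TensorProduct.includeRight : S →ₐ[A] S').comp_algebraMap] at h)
    rw [show ((1 : A') ⊗ₜ[A] (b ^ N * s)) = b' ^ N * (1 ⊗ₜ s) by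
      simp only [b', S', Algebra.TensorProduct.tmul_pow, one_pow, Algebra.TensorProduct.tmul_mul_tmul, one_mul], map_mul, map_pow] at h
    obtain ⟨v, hv⟩ := hqu.pow N
    calc q (1 ⊗ₜ s) = ↑v⁻¹ * (q b' ^ N * q (1 ⊗ₜ s)) := by rw [← hv, Units.inv_mul_cancel_left]
      _ = ↑v⁻¹ * 0 := by rw [h]
      _ = 0 := MulZeroClass.mul_zero ((v⁻¹ : ((S' ⧸ J) ⧸ IB)ˣ) : (S' ⧸ J) ⧸ IB)
  refine Ideal.Quotient.eq_zero_iff_mem.1 ?_
  show q z = 0
  rw [← sub_add_cancel z (1 ⊗ₜ s), map_add, hqI _ hs, hsq, zero_add]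

/-- Over a neighbourhood two factors of the shifted equation of an approximate idempotent split the algebra. -/
theorem exists_split_elements {A₂ S : Type u} [CommRing A₂] [Algebra A A₂] [CommRing S] [Algebra A S] [Module.Finite A S]
    {ι : Type u} (r : ι → S) {b : S} (hbr : b ∈ Ideal.span (Set.range r)) (hb : b * b - b ∈ I.map (algebraMap A S))
    {m : ℕ} (g' h' : A₂[X]) {F : A[X]} (hgh : F.map (algebraMap A A₂) = g' * h') (hFeval : Polynomial.aeval b F = 0)
    (hg' : g'.map (Ideal.Quotient.mk (I.map (algebraMap A A₂))) = X ^ (m + 1))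
    (hh' : h'.map (Ideal.Quotient.mk (I.map (algebraMap A A₂))) = (X - 1) ^ (m + 1)) :
    ∃ x y : A₂ ⊗[A] S, ∃ g₁ g₂ : A₂, x * y = 0 ∧
      y - ((1 : A₂) ⊗ₜ[A] b - 1) ^ (m + 1) ∈ I.map (algebraMap A (A₂ ⊗[A] S)) ∧
      g₁ * g₂ - 1 ∈ I.map (algebraMap A A₂) ∧ algebraMap A₂ (A₂ ⊗[A] S) g₁ ∈ Ideal.span {x} ⊔ Ideal.span {y} ∧
      algebraMap A₂ (A₂ ⊗[A] S) g₂ ∈ Ideal.span {y} ⊔ Ideal.span (Set.range fun k => (1 : A₂) ⊗ₜ[A] r k) := by
  classical
  set n := m + 1 with hn
  let S₂ := A₂ ⊗[A] S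
  let IS₂ := I.map (algebraMap A S₂)
  let b₂ : S₂ := 1 ⊗ₜ b
  let x₂ := Polynomial.aeval b₂ g'
  let y₂ := Polynomial.aeval b₂ h'
  have hcong : ∀ q q' : A₂[X], q.map (Ideal.Quotient.mk (I.map (algebraMap A A₂))) =
      q'.map (Ideal.Quotient.mk (I.map (algebraMap A A₂))) → Polynomial.aeval b₂ q - Polynomial.aeval b₂ q' ∈ IS₂ := by
    intro q q' h
    rw [← sub_eq_zero, ← Polynomial.map_sub, ← Polynomial.coe_mapRingHom, ← RingHom.mem_ker, Polynomial.ker_mapRingHom,
      Ideal.mk_ker] at h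
    rw [← map_sub]
    have h2 : (Ideal.map Polynomial.C (I.map (algebraMap A A₂))).map (Polynomial.aeval b₂).toRingHom ≤ IS₂ := by
      rw [Ideal.map_map, Ideal.map_map]
      refine Ideal.map_le_iff_le_comap.2 fun a ha => ?_
      show Polynomial.aeval b₂ (Polynomial.C (algebraMap A A₂ a)) ∈ IS₂
      rw [Polynomial.aeval_C, ← IsScalarTower.algebraMap_apply]
      exact Ideal.mem_map_of_mem _ ha
    exact h2 (Ideal.mem_map_of_mem _ h)
  have hb₂ : b₂ * b₂ - b₂ ∈ IS₂ := by
    have h := Ideal.mem_map_of_mem (Algebra.TensorProduct.includeRight : S →ₐ[A] S₂).toRingHom hb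
    rw [Ideal.map_map, show (Algebra.TensorProduct.includeRight : S →ₐ[A] S₂).toRingHom.comp (algebraMap A S) =
      algebraMap A S₂ from (Algebra.TensorProduct.includeRight : S →ₐ[A] S₂).comp_algebraMap] at h
    show ((1 : A₂) ⊗ₜ[A] b) * (1 ⊗ₜ b) - 1 ⊗ₜ b ∈ _
    rw [Algebra.TensorProduct.tmul_mul_tmul, one_mul, ← TensorProduct.tmul_sub]
    exact h
  have hx : x₂ - b₂ ^ n ∈ IS₂ := by
    simpa [x₂] using hcong g' (X ^ n) (by rw [Polynomial.map_pow, Polynomial.map_X]; exact hg')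
  have hy : y₂ - (b₂ - 1) ^ n ∈ IS₂ := by
    have h := hcong h' ((X - 1) ^ n) (by
      rw [Polynomial.map_pow, Polynomial.map_sub, Polynomial.map_X, Polynomial.map_one]; exact hh')
    rwa [map_pow, map_sub, Polynomial.aeval_X, map_one] at h
  have hxy : x₂ * y₂ = 0 := by
    rw [← map_mul, ← hgh, Polynomial.aeval_map_algebraMap]
    show Polynomial.aeval ((Algebra.TensorProduct.includeRight : S →ₐ[A] S₂) b) F = 0
    rw [Polynomial.aeval_algHom_apply, hFeval, map_zero]
  have hpowb : ∀ k, b₂ ^ (k + 1) - b₂ ∈ IS₂ := fun k => by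
    induction k with
    | zero => simp
    | succ k ih =>
      rw [show b₂ ^ (k + 1 + 1) - b₂ = b₂ * (b₂ ^ (k + 1) - b₂) + (b₂ * b₂ - b₂) by ring]
      exact add_mem (Ideal.mul_mem_left _ _ ih) hb₂
  -- the two finite modules
  let 𝔞₂ : Ideal S₂ := Ideal.span (Set.range fun k => (1 : A₂) ⊗ₜ[A] r k)
  have hb𝔞 : b₂ ∈ 𝔞₂ := by
    have h := Ideal.mem_map_of_mem (Algebra.TensorProduct.includeRight : S →ₐ[A] S₂).toRingHom hbr
    rwa [Ideal.map_span, ← Set.range_comp] at h
  have hkey : ∀ L : Ideal S₂, b₂ ^ n ∈ L ⊔ IS₂ → y₂ ∈ L →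
      ∃ g : A₂, g - 1 ∈ I.map (algebraMap A A₂) ∧ algebraMap A₂ S₂ g ∈ L := by
    intro L hbL hyL
    haveI : Module.Finite A₂ S₂ := inferInstance
    have htop : L ⊔ IS₂ = ⊤ := by
      rw [Ideal.eq_top_iff_one]
      have h1 : b₂ ^ n ∈ L ⊔ IS₂ := hbL
      have h2 : b₂ ∈ L ⊔ IS₂ := by
        have := sub_mem h1 (Ideal.mem_sup_right (S := L) (hpowb m))
        convert this using 1
        ring
      have h3 : (b₂ - 1) ^ n ∈ L ⊔ IS₂ := by
        have := sub_mem (Ideal.mem_sup_left hyL) (Ideal.mem_sup_right (S := L) hy)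
        simpa using this
      obtain ⟨c, hc⟩ := sub_dvd_pow_sub_pow (b₂ - 1) (-1) n
      have h4 : (-1 : S₂) ^ n ∈ L ⊔ IS₂ := by
        rw [show (-1 : S₂) ^ n = (b₂ - 1) ^ n - b₂ * c by rw [sub_neg_eq_add, sub_add_cancel] at hc; linear_combination -hc]
        exact sub_mem h3 (Ideal.mul_mem_right _ _ h2)
      have h5 := Ideal.mul_mem_left (L ⊔ IS₂) ((-1 : S₂) ^ n) h4
      rwa [← mul_pow, neg_one_mul, neg_neg, one_pow] at h5
    obtain ⟨g, hg, hgm⟩ := exists_smul_top_eq_zero (I.map (algebraMap A A₂)) (M := S₂ ⧸ L) (by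
      intro z _
      obtain ⟨z, rfl⟩ := Ideal.Quotient.mk_surjective z
      obtain ⟨l, hl, i, hi, hli⟩ := Submodule.mem_sup.1 (htop.ge (Submodule.mem_top (x := z)))
      rw [← hli, map_add, Ideal.Quotient.eq_zero_iff_mem.2 hl, zero_add, Ideal.smul_top_eq_map,
        Submodule.restrictScalars_mem, Ideal.map_map, ← IsScalarTower.algebraMap_eq]
      have h := Ideal.mem_map_of_mem (Ideal.Quotient.mk L) hi
      rwa [Ideal.map_map] at h)
    refine ⟨g, hg, ?_⟩
    have h := hgm 1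
    rw [← Algebra.algebraMap_eq_smul_one, ← Ideal.Quotient.mk_algebraMap, Ideal.Quotient.eq_zero_iff_mem] at h
    exact h
  obtain ⟨g₁, hg₁, hg₁L⟩ := hkey (Ideal.span {x₂} ⊔ Ideal.span {y₂}) (by
      have := sub_mem (Ideal.mem_sup_left (Ideal.mem_sup_left (Ideal.mem_span_singleton_self x₂)))
        (Ideal.mem_sup_right (S := Ideal.span {x₂} ⊔ Ideal.span {y₂}) hx)
      simpa using this)
    (Ideal.mem_sup_right (Ideal.mem_span_singleton_self y₂))
  obtain ⟨g₂, hg₂, hg₂L⟩ := hkey (Ideal.span {y₂} ⊔ 𝔞₂)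
    (Ideal.mem_sup_left (Ideal.mem_sup_right (Ideal.pow_mem_of_mem _ hb𝔞 n (by omega))))
    (Ideal.mem_sup_left (Ideal.mem_span_singleton_self y₂))
  have hg : g₁ * g₂ - 1 ∈ I.map (algebraMap A A₂) := by
    rw [show g₁ * g₂ - 1 = g₁ * (g₂ - 1) + (g₁ - 1) by ring]
    exact add_mem (Ideal.mul_mem_left _ _ hg₂) hg₁
  exact ⟨x₂, y₂, g₁, g₂, hxy, hy, hg, hg₁L, hg₂L⟩

/-- Transport a splitting to a localisation in which the splitting elements become units. -/
theorem exists_split_map {A₂ A' S : Type u} [CommRing A₂] [Algebra A A₂] [CommRing A'] [Algebra A A'] [Algebra A₂ A']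
    [IsScalarTower A A₂ A'] [CommRing S] [Algebra A S] {ι : Type u} (r : ι → S) (b : S)
    {x y : A₂ ⊗[A] S} {g₁ g₂ : A₂} {n : ℕ} (hxy : x * y = 0)
    (hy : y - ((1 : A₂) ⊗ₜ[A] b - 1) ^ n ∈ I.map (algebraMap A (A₂ ⊗[A] S)))
    (hu₁ : IsUnit (algebraMap A₂ A' g₁)) (hu₂ : IsUnit (algebraMap A₂ A' g₂))
    (h₁ : algebraMap A₂ (A₂ ⊗[A] S) g₁ ∈ Ideal.span {x} ⊔ Ideal.span {y})
    (h₂ : algebraMap A₂ (A₂ ⊗[A] S) g₂ ∈ Ideal.span {y} ⊔ Ideal.span (Set.range fun k => (1 : A₂) ⊗ₜ[A] r k)) :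
    ∃ x' y' : A' ⊗[A] S, x' * y' = 0 ∧
      y' - ((1 : A') ⊗ₜ[A] b - 1) ^ n ∈ I.map (algebraMap A (A' ⊗[A] S)) ∧
      Ideal.span {x'} ⊔ Ideal.span {y'} = ⊤ ∧
      Ideal.span {y'} ⊔ Ideal.span (Set.range fun k => (1 : A') ⊗ₜ[A] r k) = ⊤ := by
  let θ : A₂ ⊗[A] S →ₐ[A] A' ⊗[A] S := Algebra.TensorProduct.map (IsScalarTower.toAlgHom A A₂ A') (AlgHom.id A S)
  have hθ1 : ∀ s : S, θ ((1 : A₂) ⊗ₜ s) = (1 : A') ⊗ₜ s := fun s =>
    (Algebra.TensorProduct.map_tmul _ _ _ _).trans (by rw [map_one]; rfl)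
  have hu : ∀ {c : A₂}, IsUnit (algebraMap A₂ A' c) → IsUnit (θ (algebraMap A₂ _ c)) := fun {c} hc => by
    rw [show θ (algebraMap A₂ _ c) = algebraMap A' (A' ⊗[A] S) (algebraMap A₂ A' c) from
      (Algebra.TensorProduct.map_tmul _ _ _ _).trans rfl]
    exact hc.map _
  refine ⟨θ x, θ y, by rw [← map_mul, hxy, map_zero], ?_, ?_, ?_⟩
  · have h := Ideal.mem_map_of_mem θ.toRingHom hy
    rw [Ideal.map_map, show θ.toRingHom.comp (algebraMap A (A₂ ⊗[A] S)) = algebraMap A (A' ⊗[A] S) from θ.comp_algebraMap,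
      show θ.toRingHom (y - ((1 : A₂) ⊗ₜ[A] b - 1) ^ n) = θ (y - ((1 : A₂) ⊗ₜ[A] b - 1) ^ n) from rfl,
      map_sub, map_pow, map_sub, map_one, hθ1] at h
    exact h
  · refine Ideal.eq_top_of_isUnit_mem _ ?_ (hu hu₁)
    have h := Ideal.mem_map_of_mem θ h₁
    rwa [Ideal.map_sup, Ideal.map_span, Ideal.map_span, Set.image_singleton, Set.image_singleton] at h
  · refine Ideal.eq_top_of_isUnit_mem _ ?_ (hu hu₂)
    have h := Ideal.mem_map_of_mem θ h₂
    rw [Ideal.map_sup, Ideal.map_span, Ideal.map_span, Set.image_singleton, ← Set.range_comp] at h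
    simpa only [Function.comp_def, hθ1] using h

/-- The reduction map of a neighbourhood with unchanged quotient. -/
theorem exists_reduction {A' C : Type u} [CommRing A'] [Algebra A A'] [CommRing C] [Algebra (A ⧸ I) C] [Algebra A C]
    [IsScalarTower A (A ⧸ I) C]
    (hbij : Function.Bijective (Ideal.quotientMap (I.map (algebraMap A A')) (algebraMap A A') Ideal.le_comap_map)) :
    Nonempty (A' →ₐ[A] C) :=
  ⟨{ (algebraMap (A ⧸ I) C).comp ((RingEquiv.ofBijective _ hbij).symm.toRingHom.comp (Ideal.Quotient.mk (I.map (algebraMap A A')))) with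
      commutes' := fun a => by
        show algebraMap (A ⧸ I) C ((RingEquiv.ofBijective _ hbij).symm (Ideal.Quotient.mk (I.map (algebraMap A A')) (algebraMap A A' a))) = _
        rw [IsScalarTower.algebraMap_apply A (A ⧸ I) C]
        congr 1
        exact (RingEquiv.ofBijective _ hbij).symm_apply_apply (Ideal.Quotient.mk I a) }⟩

/-- The idempotent factor of a split base change lifts the algebra. -/
theorem exists_lift_core {A' S C : Type u} [CommRing A'] [Algebra A A'] [CommRing S] [Algebra A S] [Module.Finite A S]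
    [CommRing C] [Algebra A C] (hI : ∀ a ∈ I, algebraMap A C a = 0) (π : A' →ₐ[A] C)
    (hbij : Function.Bijective (Ideal.quotientMap (I.map (algebraMap A A')) (algebraMap A A') Ideal.le_comap_map))
    (φ : S →ₐ[A] C) (hφ : Function.Surjective φ)
    {ι : Type u} (r : ι → S) (het : ∀ k, Algebra.Etale A (Localization.Away (r k))) {b : S} (hφb : φ b = 1)
    (hker : ∀ s, φ s = 0 → ∃ N : ℕ, b ^ N * s ∈ I.map (algebraMap A S))
    {x y : A' ⊗[A] S} {n : ℕ} (hn : n ≠ 0) (hxy : x * y = 0)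
    (hy : y - ((1 : A') ⊗ₜ[A] b - 1) ^ n ∈ I.map (algebraMap A (A' ⊗[A] S)))
    (htop1 : Ideal.span {x} ⊔ Ideal.span {y} = ⊤)
    (htop2 : Ideal.span {y} ⊔ Ideal.span (Set.range fun k => (1 : A') ⊗ₜ[A] r k) = ⊤) :
    ∃ (B : Type u) (_ : CommRing B) (_ : Algebra A B) (_ : Algebra A' B) (_ : IsScalarTower A A' B)
        (g : B →ₐ[A] C), Module.Finite A' B ∧ Algebra.Etale A' B ∧ Function.Surjective g ∧
          RingHom.ker g = I.map (algebraMap A B) := by
  obtain ⟨u, hu, v, hv, huv⟩ := Submodule.mem_sup.1 ((Ideal.eq_top_iff_one _).1 htop1)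
  obtain ⟨u', rfl⟩ := Ideal.mem_span_singleton'.1 hu
  obtain ⟨v', rfl⟩ := Ideal.mem_span_singleton'.1 hv
  set e := u' * x
  have he : IsIdempotentElem e := by
    show e * e = e
    calc e * e = e * (1 - v' * y) := by rw [← huv]; ring
      _ = e - u' * v' * (x * y) := by ring
      _ = e := by rw [hxy, mul_zero, sub_zero]
  have hyJ : y ∈ Ideal.span {1 - e} := by
    refine Ideal.mem_span_singleton'.2 ⟨y, ?_⟩
    rw [mul_sub, mul_one, show y * e = u' * (x * y) by ring, hxy, mul_zero, sub_zero]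
  haveI : IsLocalization.Away e ((A' ⊗[A] S) ⧸ Ideal.span {1 - e}) :=
    IsLocalization.away_of_isIdempotentElem he Ideal.mk_ker Ideal.Quotient.mk_surjective
  let ψ : A' ⊗[A] S →ₐ[A] C := Algebra.TensorProduct.productMap π φ
  have hψ : ∀ s, ψ ((1 : A') ⊗ₜ s) = φ s := fun s => by simp [ψ]
  have hψy : ψ y = 0 := by
    have hle : I.map (algebraMap A (A' ⊗[A] S)) ≤ RingHom.ker ψ := Ideal.map_le_iff_le_comap.2 fun a ha => by
      rw [Ideal.mem_comap, RingHom.mem_ker, AlgHom.commutes]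
      exact hI a ha
    have h : ψ (y - ((1 : A') ⊗ₜ[A] b - 1) ^ n) = 0 := hle hy
    rwa [map_sub, map_pow, map_sub, map_one, hψ, hφb, sub_self, zero_pow hn, sub_zero] at h
  have hψe : ψ (1 - e) = 0 := by
    rw [← huv, add_sub_cancel_left, map_mul, hψy, mul_zero]
  let gB : ((A' ⊗[A] S) ⧸ Ideal.span {1 - e}) →ₐ[A] C := Ideal.Quotient.liftₐ (Ideal.span {1 - e}) ψ fun z hz => by
    obtain ⟨c, rfl⟩ := Ideal.mem_span_singleton'.1 hz
    rw [map_mul, hψe, mul_zero]
  refine ⟨(A' ⊗[A] S) ⧸ Ideal.span {1 - e}, inferInstance, inferInstance, inferInstance, inferInstance, gB, ?_, ?_, ?_, ?_⟩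
  · exact Module.Finite.of_surjective (Ideal.Quotient.mkₐ A' (Ideal.span {1 - e})).toLinearMap Ideal.Quotient.mk_surjective
  · refine etale_factor_of_cover e (fun k => (1 : A') ⊗ₜ[A] r k) (fun k => haveI := het k; etale_away_one_tmul A' (r k)) ?_
    have h := congrArg (Ideal.map (Ideal.Quotient.mk (Ideal.span {1 - e}))) htop2
    rw [Ideal.map_top, Ideal.map_sup, Ideal.map_span, Ideal.map_span, Set.image_singleton,
      Ideal.Quotient.eq_zero_iff_mem.2 hyJ, Ideal.span_singleton_zero, bot_sup_eq, ← Set.range_comp] at h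
    exact h
  · intro c
    obtain ⟨s, rfl⟩ := hφ c
    exact ⟨Ideal.Quotient.mk _ ((1 : A') ⊗ₜ s), hψ s⟩
  · apply le_antisymm
    · intro z hz
      obtain ⟨z, rfl⟩ := Ideal.Quotient.mk_surjective z
      exact ker_le_map I hbij φ b hker _ ψ hψ hI hyJ hy hz
    · refine Ideal.map_le_iff_le_comap.2 fun a ha => ?_
      rw [Ideal.mem_comap, RingHom.mem_ker, AlgHom.commutes]
      exact hI a ha

/-- The lift built from a splitting over an étale neighbourhood. -/
theorem exists_lift_of_split {C : Type u} [CommRing C] [Algebra (A ⧸ I) C] [Algebra A C] [IsScalarTower A (A ⧸ I) C]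
    {A₂ : Type u} [CommRing A₂] [Algebra A A₂] [Algebra.Etale A A₂]
    (hA₂ : Function.Bijective (Ideal.quotientMap (I.map (algebraMap A A₂)) (algebraMap A A₂) Ideal.le_comap_map))
    {S : Type u} [CommRing S] [Algebra A S] [Module.Finite A S] (φ : S →ₐ[A] C) (hφ : Function.Surjective φ)
    {ι : Type u} (r : ι → S) (het : ∀ k, Algebra.Etale A (Localization.Away (r k))) {b : S} (hφb : φ b = 1)
    (hker : ∀ s, φ s = 0 → ∃ N : ℕ, b ^ N * s ∈ I.map (algebraMap A S))
    {x₂ y₂ : A₂ ⊗[A] S} {g₁ g₂ : A₂} {n : ℕ} (hn : n ≠ 0) (hxy : x₂ * y₂ = 0)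
    (hy : y₂ - ((1 : A₂) ⊗ₜ[A] b - 1) ^ n ∈ I.map (algebraMap A (A₂ ⊗[A] S)))
    (hg : g₁ * g₂ - 1 ∈ I.map (algebraMap A A₂))
    (hg₁L : algebraMap A₂ (A₂ ⊗[A] S) g₁ ∈ Ideal.span {x₂} ⊔ Ideal.span {y₂})
    (hg₂L : algebraMap A₂ (A₂ ⊗[A] S) g₂ ∈ Ideal.span {y₂} ⊔ Ideal.span (Set.range fun k => (1 : A₂) ⊗ₜ[A] r k)) :
    ∃ (A' : Type u) (_ : CommRing A') (_ : Algebra A A') (_ : Algebra.Etale A A'),
      Function.Bijective (Ideal.quotientMap (I.map (algebraMap A A')) (algebraMap A A') Ideal.le_comap_map) ∧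
      ∃ (B : Type u) (_ : CommRing B) (_ : Algebra A B) (_ : Algebra A' B) (_ : IsScalarTower A A' B)
        (g : B →ₐ[A] C), Module.Finite A' B ∧ Algebra.Etale A' B ∧ Function.Surjective g ∧
          RingHom.ker g = I.map (algebraMap A B) := by
  have hbij := bijective_quotientMap_comp I hA₂
    (bijective_quotientMap_away (I.map (algebraMap A A₂)) hg (Localization.Away (g₁ * g₂)))
  haveI : Algebra.Etale A₂ (Localization.Away (g₁ * g₂)) := Algebra.Etale.of_isLocalizationAway (g₁ * g₂)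
  have hu := IsLocalization.Away.algebraMap_isUnit (S := Localization.Away (g₁ * g₂)) (g₁ * g₂)
  obtain ⟨x', y', hxy', hy', h1, h2⟩ := exists_split_map I (A' := Localization.Away (g₁ * g₂)) r b hxy hy
    (isUnit_of_dvd_unit (map_dvd _ (dvd_mul_right _ _)) hu) (isUnit_of_dvd_unit (map_dvd _ (dvd_mul_left _ _)) hu) hg₁L hg₂L
  obtain ⟨π⟩ := exists_reduction I (C := C) hbij
  exact ⟨Localization.Away (g₁ * g₂), inferInstance, inferInstance, Algebra.Etale.comp A A₂ _, hbij,
    exists_lift_core I (fun a ha => by rw [IsScalarTower.algebraMap_apply A (A ⧸ I) C, Ideal.Quotient.algebraMap_eq,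
      Ideal.Quotient.eq_zero_iff_mem.2 ha, map_zero]) π hbij φ hφ r het hφb hker hn hxy' hy' h1 h2⟩

/-- After an étale neighbourhood of the pair a finite étale algebra over the quotient lifts. -/
theorem exists_nbhd_finite_etale_lift {C : Type u} [CommRing C] [Algebra (A ⧸ I) C] [Algebra A C]
    [IsScalarTower A (A ⧸ I) C] [Module.Finite (A ⧸ I) C] [Algebra.Etale (A ⧸ I) C] :
    ∃ (A' : Type u) (_ : CommRing A') (_ : Algebra A A') (_ : Algebra.Etale A A'),
      Function.Bijective (Ideal.quotientMap (I.map (algebraMap A A')) (algebraMap A A') Ideal.le_comap_map) ∧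
      ∃ (B : Type u) (_ : CommRing B) (_ : Algebra A B) (_ : Algebra A' B) (_ : IsScalarTower A A' B)
        (g : B →ₐ[A] C), Module.Finite A' B ∧ Algebra.Etale A' B ∧ Function.Surjective g ∧
          RingHom.ker g = I.map (algebraMap A B) := by
  classical
  haveI : Module.Finite A C := Module.Finite.trans (A ⧸ I) C
  obtain ⟨T, _, _, f, hT, hf, hfk⟩ := Hensel.exists_etale_lift I C
  obtain ⟨S, _, _, φ, ι, r, b, hS, hφ, het, hbr, hφb, hb, hker⟩ := exists_finite_model I f hf hfk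
  -- a monic equation of `b * b - b` with coefficients in `I`
  obtain ⟨p, hpm, -, hpc, hp⟩ := LinearMap.exists_monic_and_natDegree_eq_and_coeff_mem_pow_and_aeval_eq_zero A
    (Algebra.lmul A S (b * b - b)) I (by
      rintro _ ⟨s, rfl⟩
      rw [Ideal.smul_top_eq_map, Submodule.restrictScalars_mem]
      exact Ideal.mul_mem_right _ _ hb)
  have hp' : Polynomial.aeval (b * b - b) p = 0 := by
    have h := LinearMap.congr_fun ((Polynomial.aeval_algHom_apply (Algebra.lmul A S) (b * b - b) p).symm.trans hp) 1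
    simpa using h
  set n := p.natDegree + 1
  let P := p * X
  have hPmap : P.map (Ideal.Quotient.mk I) = X ^ n := by
    have h1 : p.map (Ideal.Quotient.mk I) = X ^ p.natDegree := by
      ext k
      rw [coeff_map, coeff_X_pow]
      split_ifs with h
      · rw [h, hpm.coeff_natDegree, map_one]
      · rcases lt_or_gt_of_ne h with h' | h'
        · exact Ideal.Quotient.eq_zero_iff_mem.2 (Ideal.pow_le_self (by omega) (hpc k))
        · rw [coeff_eq_zero_of_natDegree_lt h', map_zero]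
    rw [Polynomial.map_mul, Polynomial.map_X, h1, ← pow_succ]
  have hPm : P.Monic := hpm.mul monic_X
  let F := P.comp (X ^ 2 - X)
  rcases subsingleton_or_nontrivial A with hA | hA
  · -- the zero ring
    refine ⟨A, inferInstance, inferInstance, inferInstance, ⟨fun x y _ => Subsingleton.elim _ _, fun x => ?_⟩,
      A, inferInstance, inferInstance, inferInstance, inferInstance, Algebra.ofId A C, inferInstance, inferInstance,
      fun c => ⟨0, ?_⟩, ?_⟩
    · obtain ⟨a, rfl⟩ := Ideal.Quotient.mk_surjective x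
      exact ⟨Ideal.Quotient.mk _ a, Subsingleton.elim _ _⟩
    · haveI : Subsingleton C := Module.subsingleton A C
      exact Subsingleton.elim _ _
    · exact Ideal.ext fun x => by simp [Subsingleton.elim x 0]
  have hFm : F.Monic := by
    have hdeg : (X : A[X]).degree < (X ^ 2 : A[X]).degree := by
      rw [degree_X_pow, degree_X]; exact_mod_cast (by norm_num : 1 < 2)
    refine hPm.comp ((monic_X_pow 2).sub_of_left hdeg) ?_
    rw [natDegree_sub_eq_left_of_natDegree_lt (by simp)]; simp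
  have hFeval : Polynomial.aeval b F = 0 := by
    rw [Polynomial.aeval_comp]
    simp [P, ← sq, show b ^ 2 - b = b * b - b by ring, hp']
  -- factor
  obtain ⟨A₂, _, _, _, hA₂, g', h', hgh, hg', hh'⟩ := Hensel.exists_etale_lift_factorization F hFm
    ((X : (A ⧸ I)[X]) ^ n) ((X - 1) ^ n) (by
      rw [Polynomial.map_comp, hPmap, ← mul_pow]
      simp only [Polynomial.map_sub, Polynomial.map_pow, Polynomial.map_X, pow_comp, X_comp]
      congr 1
      ring)
    (by rw [(monic_X_pow n).leadingCoeff]; exact isUnit_one)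
    ((IsCoprime.pow (⟨1, -1, by ring⟩ : IsCoprime (X : (A ⧸ I)[X]) (X - 1))))
  rw [Polynomial.map_pow, Polynomial.map_X] at hg'
  rw [Polynomial.map_pow, Polynomial.map_sub, Polynomial.map_X, Polynomial.map_one] at hh'
  obtain ⟨x₂, y₂, g₁, g₂, hxy, hy, hg, hg₁L, hg₂L⟩ := exists_split_elements I r hbr hb g' h' hgh hFeval hg' hh'
  exact exists_lift_of_split I hA₂ φ hφ r het hφb hker (Nat.succ_ne_zero _) hxy hy hg hg₁L hg₂L

end GrothLib.EtLiftNbhd5
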