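import Groth.Agent.Lib.EtLiftNbhd5.Nbhd
import Groth.Agent.Lib.Hensel.SmoothAlgLift
import Groth.Agent.Lib.NormalSmooth.Basic
import Groth.Prelude.Def_EGA4b
import Mathlib.RingTheory.DiscreteValuationRing.Basic
import Mathlib.RingTheory.LocalRing.ResidueField.Defs

/-!
# Smooth lifts with finite étale covers over a residue field
-/

set_option autoImplicit false
set_option linter.all false
set_option backward.isDefEq.respectTransparency false
set_option maxHeartbeats 800000

universe u

open TensorProduct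

namespace GrothLib.EtLiftNbhd5

/-- A reduction identifies the base change to a quotient of the base. -/
theorem exists_baseChange_equiv {V k A A₀ : Type u} [CommRing V] [CommRing k] [Algebra V k] [CommRing A] [Algebra V A]
    [CommRing A₀] [Algebra V A₀] [Algebra k A₀] [IsScalarTower V k A₀]
    (hk : Function.Surjective (algebraMap V k)) (π : A →ₐ[V] A₀) (hπ : Function.Surjective π)
    (hker : RingHom.ker π ≤ (RingHom.ker (algebraMap V k)).map (algebraMap V A)) :
    ∃ e : k ⊗[V] A ≃ₐ[k] A₀, ∀ a : A, e (1 ⊗ₜ a) = π a := by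
  let θ : k ⊗[V] A →ₐ[k] A₀ := Algebra.TensorProduct.lift (Algebra.ofId k A₀) π fun _ _ => Commute.all _ _
  have h1 : ∀ a : A, θ (1 ⊗ₜ a) = π a := fun a => by simp [θ]
  have hrep : ∀ x : k ⊗[V] A, ∃ a : A, x = 1 ⊗ₜ a := by
    intro x
    induction x using TensorProduct.induction_on with
    | zero => exact ⟨0, (TensorProduct.tmul_zero _ _).symm⟩
    | tmul c a =>
      obtain ⟨v, rfl⟩ := hk c
      exact ⟨v • a, by rw [Algebra.algebraMap_eq_smul_one, TensorProduct.smul_tmul]⟩
    | add x y hx hy =>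
      obtain ⟨a, rfl⟩ := hx
      obtain ⟨b, rfl⟩ := hy
      exact ⟨a + b, (TensorProduct.tmul_add _ _ _).symm⟩
  refine ⟨AlgEquiv.ofBijective θ ⟨?_, fun y => ?_⟩, h1⟩
  · refine (injective_iff_map_eq_zero θ).2 fun x hx => ?_
    obtain ⟨a, rfl⟩ := hrep x
    rw [h1] at hx
    have h := Ideal.mem_map_of_mem (Algebra.TensorProduct.includeRight : A →ₐ[V] k ⊗[V] A).toRingHom (hker hx)
    rw [Ideal.map_map, show (Algebra.TensorProduct.includeRight : A →ₐ[V] k ⊗[V] A).toRingHom.comp (algebraMap V A) =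
      algebraMap V (k ⊗[V] A) from (Algebra.TensorProduct.includeRight : A →ₐ[V] k ⊗[V] A).comp_algebraMap,
      IsScalarTower.algebraMap_eq V k (k ⊗[V] A), ← Ideal.map_map,
      show (RingHom.ker (algebraMap V k)).map (algebraMap V k) = ⊥ from
        (Ideal.map_eq_bot_iff_le_ker _).2 le_rfl, Ideal.map_bot] at h
    exact h
  · obtain ⟨a, rfl⟩ := hπ y
    exact ⟨1 ⊗ₜ a, h1 a⟩

/-- Localisations of a finite étale algebra at a multiplicative set of the base. -/
theorem etale_localization {A B : Type u} [CommRing A] [CommRing B] [Algebra A B] [Algebra.Etale A B]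
    (M : Submonoid A) : Algebra.Etale (Localization M) (Localization (Algebra.algebraMapSubmonoid B M)) := by
  haveI : Algebra.IsPushout A (Localization M) B (Localization (Algebra.algebraMapSubmonoid B M)) :=
    (Algebra.isPushout_of_isLocalization (R := A) M (Localization M) B _).symm
  exact Algebra.Etale.of_equiv (Algebra.IsPushout.equiv A (Localization M) B (Localization (Algebra.algebraMapSubmonoid B M)))

theorem isNormalRing_of_domain_smooth {V : Type u} [CommRing V] [IsDomain V] [IsIntegrallyClosed V]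
    {B : Type u} [CommRing B] [Algebra V B] [Algebra.Smooth V B] : EGA4.IsNormalRing B := fun q _ =>
  GrothLib.NormalSmooth.isNormalRing_of_smooth V B (fun p _ =>
    ⟨IsLocalization.isDomain_localization (Ideal.primeCompl_le_nonZeroDivisors p),
      isIntegrallyClosed_of_isLocalization _ p.primeCompl (Ideal.primeCompl_le_nonZeroDivisors p)⟩) q

/-- A smooth lift together with a lift of a finite étale cover. -/
theorem exists_smooth_lift_finite_etale {V : Type u} [CommRing V] (I : Ideal V)
    (A₀ : Type u) [CommRing A₀] [Algebra (V ⧸ I) A₀] [Algebra.Smooth (V ⧸ I) A₀] [Algebra V A₀]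
    [IsScalarTower V (V ⧸ I) A₀] (B₀ : Type u) [CommRing B₀] [Algebra A₀ B₀] [Algebra V B₀]
    [IsScalarTower V A₀ B₀] [Module.Finite A₀ B₀] [Algebra.Etale A₀ B₀] :
    ∃ (A : Type u) (_ : CommRing A) (_ : Algebra V A) (_ : Algebra.Smooth V A)
      (π : A →ₐ[V] A₀) (B : Type u) (_ : CommRing B) (_ : Algebra A B) (_ : Algebra V B) (_ : IsScalarTower V A B)
      (g : B →ₐ[V] B₀), Function.Surjective π ∧ RingHom.ker π ≤ I.map (algebraMap V A) ∧
        Module.Finite A B ∧ Algebra.Etale A B ∧ Function.Surjective g ∧ RingHom.ker g ≤ I.map (algebraMap V B) ∧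
        ∀ a : A, g (algebraMap A B a) = algebraMap A₀ B₀ (π a) := by
  obtain ⟨Z, _, _, φ, hZ, hφ, hφk⟩ := Hensel.exists_smooth_lift I A₀
  let J : Ideal Z := I.map (algebraMap V Z)
  have hJ : ∀ z ∈ J, φ z = 0 := fun z hz => by rwa [← RingHom.mem_ker, hφk]
  let ψ : Z ⧸ J →+* A₀ := Ideal.Quotient.lift J φ.toRingHom hJ
  have hψ : Function.Bijective ψ := by
    refine ⟨(injective_iff_map_eq_zero ψ).2 fun x hx => ?_, fun y => ?_⟩
    · obtain ⟨x, rfl⟩ := Ideal.Quotient.mk_surjective x
      refine Ideal.Quotient.eq_zero_iff_mem.2 ?_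
      show x ∈ J
      rw [show J = RingHom.ker φ from hφk.symm]
      exact hx
    · obtain ⟨z, rfl⟩ := hφ y
      exact ⟨Ideal.Quotient.mk J z, rfl⟩
  letI : Algebra (Z ⧸ J) A₀ := ψ.toAlgebra
  letI : Algebra (Z ⧸ J) B₀ := ((algebraMap A₀ B₀).comp ψ).toAlgebra
  letI : Algebra Z A₀ := φ.toRingHom.toAlgebra
  letI : Algebra Z B₀ := ((algebraMap A₀ B₀).comp φ.toRingHom).toAlgebra
  haveI : IsScalarTower (Z ⧸ J) A₀ B₀ := IsScalarTower.of_algebraMap_eq fun _ => rfl
  haveI : IsScalarTower Z (Z ⧸ J) A₀ := IsScalarTower.of_algebraMap_eq fun _ => rfl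
  haveI : IsScalarTower Z (Z ⧸ J) B₀ := IsScalarTower.of_algebraMap_eq fun _ => rfl
  haveI : IsScalarTower V Z A₀ := IsScalarTower.of_algebraMap_eq fun v => (φ.commutes v).symm
  haveI : IsScalarTower V Z B₀ := IsScalarTower.of_algebraMap_eq fun v => by
    show algebraMap V B₀ v = algebraMap A₀ B₀ (φ (algebraMap V Z v))
    rw [φ.commutes, ← IsScalarTower.algebraMap_apply]
  haveI : Module.Finite (Z ⧸ J) A₀ :=
    Module.Finite.equiv (AlgEquiv.ofBijective (Algebra.ofId (Z ⧸ J) A₀) hψ).toLinearEquiv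
  haveI : Algebra.Etale (Z ⧸ J) A₀ := Algebra.Etale.of_equiv (AlgEquiv.ofBijective (Algebra.ofId (Z ⧸ J) A₀) hψ)
  haveI : Algebra.Etale (Z ⧸ J) B₀ := Algebra.Etale.comp (Z ⧸ J) A₀ B₀
  haveI : Module.Finite (Z ⧸ J) B₀ := Module.Finite.trans A₀ B₀
  obtain ⟨A', _, _, _, hbij, B, _, _, _, _, g, hfin, het, hg, hgk⟩ :=
    exists_nbhd_finite_etale_lift J (C := B₀)
  obtain ⟨π⟩ := exists_reduction J (C := A₀) hbij
  letI : Algebra V A' := ((algebraMap Z A').comp (algebraMap V Z)).toAlgebra
  letI : Algebra V B := ((algebraMap Z B).comp (algebraMap V Z)).toAlgebra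
  haveI : IsScalarTower V Z A' := IsScalarTower.of_algebraMap_eq fun _ => rfl
  haveI : IsScalarTower V Z B := IsScalarTower.of_algebraMap_eq fun _ => rfl
  haveI : IsScalarTower V A' B := IsScalarTower.of_algebraMap_eq fun v => IsScalarTower.algebraMap_apply Z A' B _
  haveI : Algebra.Smooth V A' := Algebra.Smooth.comp V Z A'
  have hmapA : I.map (algebraMap V A') = J.map (algebraMap Z A') := by rw [Ideal.map_map]; rfl
  have hmapB : I.map (algebraMap V B) = J.map (algebraMap Z B) := by rw [Ideal.map_map]; rfl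
  have hkill : ∀ x ∈ J.map (algebraMap Z A'), π x = 0 := by
    intro x hx
    refine (show J.map (algebraMap Z A') ≤ RingHom.ker π from Ideal.map_le_iff_le_comap.2 fun z hz => ?_) hx
    rw [Ideal.mem_comap, RingHom.mem_ker, AlgHom.commutes]
    exact hJ z hz
  have hrep : ∀ x : A', ∃ z : Z, x - algebraMap Z A' z ∈ J.map (algebraMap Z A') := fun x => by
    obtain ⟨c, hc⟩ := hbij.2 (Ideal.Quotient.mk _ x)
    obtain ⟨z, rfl⟩ := Ideal.Quotient.mk_surjective c
    rw [Ideal.quotientMap_mk, Ideal.Quotient.eq] at hc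
    exact ⟨z, by simpa using neg_mem hc⟩
  have hπz : ∀ {x : A'} {z : Z}, x - algebraMap Z A' z ∈ J.map (algebraMap Z A') → π x = φ z := fun {x z} h => by
    have h1 := hkill _ h
    rwa [map_sub, AlgHom.commutes, sub_eq_zero] at h1
  refine ⟨A', inferInstance, inferInstance, inferInstance, π.restrictScalars V, B, inferInstance, inferInstance,
    inferInstance, inferInstance, g.restrictScalars V, fun y => ?_, ?_, hfin, het, hg, ?_, fun a => ?_⟩
  · obtain ⟨z, rfl⟩ := hφ y
    exact ⟨algebraMap Z A' z, AlgHom.commutes π z⟩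
  · intro x hx
    rw [hmapA]
    obtain ⟨z, hz⟩ := hrep x
    have hz0 : φ z = 0 := (hπz hz).symm.trans hx
    rw [← sub_add_cancel x (algebraMap Z A' z)]
    exact add_mem hz (Ideal.mem_map_of_mem _ (hφk.le hz0))
  · rw [hmapB]
    exact fun x hx => hgk.le hx
  · obtain ⟨z, hz⟩ := hrep a
    show g (algebraMap A' B a) = algebraMap A₀ B₀ (π a)
    rw [hπz hz]
    have h1 : algebraMap A' B (a - algebraMap Z A' z) ∈ RingHom.ker g := by
      rw [hgk, IsScalarTower.algebraMap_eq Z A' B, ← Ideal.map_map]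
      exact Ideal.mem_map_of_mem _ hz
    rw [RingHom.mem_ker, map_sub, map_sub, sub_eq_zero, ← IsScalarTower.algebraMap_apply, AlgHom.commutes] at h1
    exact h1

/-- The lift over a complete discrete valuation ring. -/
theorem exists_smooth_normal_lift (V : Type u) [CommRing V] [IsDomain V] [IsDiscreteValuationRing V]
    (A₀ : Type u) [CommRing A₀] [Algebra (IsLocalRing.ResidueField V) A₀]
    [Algebra.Smooth (IsLocalRing.ResidueField V) A₀]
    (B₀ : Type u) [CommRing B₀] [Algebra A₀ B₀] [Algebra (IsLocalRing.ResidueField V) B₀]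
    [IsScalarTower (IsLocalRing.ResidueField V) A₀ B₀] [Module.Finite A₀ B₀] [Algebra.Etale A₀ B₀] :
    ∃ (A : Type u) (_ : CommRing A) (_ : Algebra V A) (_ : Algebra.Smooth V A)
      (e : (IsLocalRing.ResidueField V) ⊗[V] A ≃ₐ[IsLocalRing.ResidueField V] A₀)
      (B : Type u) (_ : CommRing B) (_ : Algebra A B) (_ : Algebra V B) (_ : IsScalarTower V A B)
      (e' : (IsLocalRing.ResidueField V) ⊗[V] B ≃ₐ[IsLocalRing.ResidueField V] B₀),
      Module.Finite A B ∧ EGA4.IsNormalRing B ∧
      (∀ x : (IsLocalRing.ResidueField V) ⊗[V] A,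
        e' (Algebra.TensorProduct.map (AlgHom.id (IsLocalRing.ResidueField V) (IsLocalRing.ResidueField V))
          (IsScalarTower.toAlgHom V A B) x) = algebraMap A₀ B₀ (e x)) ∧
      Algebra.Etale (Localization (MonoidHom.mker (Ideal.Quotient.mk ((IsLocalRing.maximalIdeal V).map (algebraMap V A)))))
        (Localization (Algebra.algebraMapSubmonoid B
          (MonoidHom.mker (Ideal.Quotient.mk ((IsLocalRing.maximalIdeal V).map (algebraMap V A)))))) := by
  letI : Algebra V A₀ := ((algebraMap (IsLocalRing.ResidueField V) A₀).comp (algebraMap V _)).toAlgebra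
  letI : Algebra V B₀ := ((algebraMap (IsLocalRing.ResidueField V) B₀).comp (algebraMap V _)).toAlgebra
  haveI : IsScalarTower V (IsLocalRing.ResidueField V) A₀ := IsScalarTower.of_algebraMap_eq fun _ => rfl
  haveI : IsScalarTower V (IsLocalRing.ResidueField V) B₀ := IsScalarTower.of_algebraMap_eq fun _ => rfl
  haveI : IsScalarTower V A₀ B₀ := IsScalarTower.of_algebraMap_eq fun v =>
    IsScalarTower.algebraMap_apply (IsLocalRing.ResidueField V) A₀ B₀ _
  letI : Algebra (V ⧸ IsLocalRing.maximalIdeal V) A₀ := (inferInstance : Algebra (IsLocalRing.ResidueField V) A₀)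
  haveI : Algebra.Smooth (V ⧸ IsLocalRing.maximalIdeal V) A₀ :=
    (inferInstance : Algebra.Smooth (IsLocalRing.ResidueField V) A₀)
  haveI : IsScalarTower V (V ⧸ IsLocalRing.maximalIdeal V) A₀ := IsScalarTower.of_algebraMap_eq fun _ => rfl
  obtain ⟨A, _, _, hsm, π, B, _, _, _, _, g, hπ, hπk, hfin, het, hg, hgk, hcomm⟩ :=
    exists_smooth_lift_finite_etale (IsLocalRing.maximalIdeal V) A₀ B₀
  have hk : Function.Surjective (algebraMap V (IsLocalRing.ResidueField V)) := IsLocalRing.residue_surjective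
  have hkk : RingHom.ker (algebraMap V (IsLocalRing.ResidueField V)) = IsLocalRing.maximalIdeal V := Ideal.mk_ker
  obtain ⟨e, he⟩ := exists_baseChange_equiv hk π hπ (by rw [hkk]; exact hπk)
  obtain ⟨e', he'⟩ := exists_baseChange_equiv hk g hg (by rw [hkk]; exact hgk)
  haveI := hsm
  haveI := het
  haveI : Algebra.Smooth V B := Algebra.Smooth.comp V A B
  refine ⟨A, inferInstance, inferInstance, hsm, e, B, inferInstance, inferInstance, inferInstance, inferInstance, e', hfin,
    isNormalRing_of_domain_smooth (V := V), fun x => ?_, etale_localization _⟩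
  induction x using TensorProduct.induction_on with
  | zero => simp
  | tmul c a =>
    obtain ⟨v, rfl⟩ := hk c
    rw [Algebra.algebraMap_eq_smul_one, TensorProduct.smul_tmul, Algebra.TensorProduct.map_tmul, map_one, he, he']
    exact hcomm _
  | add x y hx hy => rw [map_add, map_add, hx, hy, map_add, map_add]

end GrothLib.EtLiftNbhd5
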